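import Groth.Agent.H23.EndInv
import Groth.Agent.OmegaLib.IdealMod
import Groth.Agent.S8914

/-!
Effective divisors contained in one another with isomorphic ideal modules.
-/

set_option autoImplicit false
set_option backward.isDefEq.respectTransparency false
set_option backward.isDefEq.respectTransparency.types false

universe u

open CategoryTheory CategoryTheory.Limits AlgebraicGeometry TopologicalSpace Opposite

namespace Groth.Agent.DivEq16

open Groth.Agent.AModX Groth.Agent.InvX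

variable {X : Scheme.{u}}

theorem nonzerodivisor_of_injective {L : X.Modules} (hL : PicF.IsInvertible L) (v : L ⟶ L) (s : Γ(X, ⊤))
    (hs : ∀ (W : X.Opens) (l : Γ(L, W)), v.app W l = resR (le_top : W ≤ ⊤) s • l)
    (hinj : ∀ W, Function.Injective (v.app W)) (t : Γ(X, ⊤)) (ht : s * t = 0) : t = 0 := by
  choose U hU e he using InvX.exists_frame hL
  refine eq_of_locally (M := Coh.structureModule X) _ _ fun p _ => ⟨U p, le_top, hU p, ?_⟩
  have h0 : resR (le_top : U p ≤ ⊤) t • e p = 0 := hinj _ (by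
    rw [hs, smul_smul, ← map_mul, ht, map_zero, zero_smul, map_zero])
  refine (he p).coord_unique le_rfl ?_
  rw [res_self]
  refine h0.trans ?_
  rw [show (res (Coh.structureModule X) (le_top : U p ≤ ⊤) 0) = 0 from map_zero _]
  exact (zero_smul _ _).symm

theorem eq_of_le_of_iso {k : Type u} [Field k] (g : k →+* Γ(X, ⊤)) (hg : g.Finite) {D₁ D₂ : X.IdealSheafData}
    (h₁ : BlowUp.IsEffCartierIdeal D₁) (hle : D₂ ≤ D₁) (θ : ClSub.idealMod D₁ ≅ ClSub.idealMod D₂) : D₁ = D₂ := by
  have hzero : ClSub.idealModι D₂ ≫ ClSub.toSubscheme D₁ = 0 := by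
    refine Scheme.Modules.hom_ext _ _ fun W => ?_
    ext k
    refine eq_of_locally (M := (ClSub.quotMod D₁)) _ _ fun p hp => ?_
    obtain ⟨_, ⟨U, hU, rfl⟩, hpU, hUW⟩ := X.isBasis_affineOpens.exists_subset_of_mem_open hp W.isOpen
    refine ⟨U, hUW, hpU, ?_⟩
    rw [← app_res]
    refine Eq.trans ?_ (map_zero _).symm
    have hmem := hle ⟨U, hU⟩ (OmegaLib.idealSect_mem D₂ ⟨U, hU⟩ (res (ClSub.idealMod D₂) hUW k))
    rw [← D₁.ker_subschemeι_app, RingHom.mem_ker] at hmem
    exact hmem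
  let j : ClSub.idealMod D₂ ⟶ ClSub.idealMod D₁ := kernel.lift _ (ClSub.idealModι D₂) hzero
  have hj : j ≫ ClSub.idealModι D₁ = ClSub.idealModι D₂ := kernel.lift_ι _ _ _
  have hjsect : ∀ W (k : Γ(ClSub.idealMod D₂, W)), OmegaSh.idealSect D₁ W (j.app W k) = OmegaSh.idealSect D₂ W k :=
    fun W k => congrArg (fun φ => φ.app W k) hj
  have hL := (S8914.result D₁).2 h₁
  obtain ⟨s, hs⟩ := H23.EndInv.exists_coeff hL (θ.hom ≫ j)
  have hθ : ∀ W (a : Γ(ClSub.idealMod D₁, W)), θ.inv.app W (θ.hom.app W a) = a := fun W a =>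
    congrArg (fun φ => φ.app W a) θ.hom_inv_id
  have hinj : ∀ W, Function.Injective ((θ.hom ≫ j).app W) := fun W a b hab => by
    rw [Scheme.Modules.Hom.comp_app] at hab
    have := congrArg (OmegaSh.idealSect D₁ W) hab
    rw [← hθ W a, ← hθ W b]
    exact congrArg (θ.inv.app W) (OmegaLib.idealSect_injective D₂ W ((hjsect W _).symm.trans (this.trans (hjsect W _))))
  letI := g.toAlgebra
  haveI : Module.Finite k Γ(X, ⊤) := hg
  obtain ⟨u, hu⟩ := LinearMap.surjective_of_injective (f := LinearMap.mulLeft k s)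
    ((injective_iff_map_eq_zero _).2 fun t ht => nonzerodivisor_of_injective hL _ s hs hinj t ht) 1
  have hu' : s * u = 1 := hu
  refine le_antisymm (fun U x hx => ?_) hle
  obtain ⟨a, rfl⟩ := OmegaLib.exists_of_mem D₁ U x hx
  have h2 : (θ.hom ≫ j).app U.1 ((resR (le_top : U.1 ≤ ⊤) u) • a) = a := by
    rw [hs, smul_smul, ← map_mul, hu', map_one, one_smul]
  rw [← h2, Scheme.Modules.Hom.comp_app]
  refine (congrArg (fun z => z ∈ D₂.ideal U) (hjsect U.1 _)).mpr (OmegaLib.idealSect_mem D₂ U _)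

end Groth.Agent.DivEq16
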